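import Groth.Agent.Neron.K531.Defs
import Groth.Agent.Neron.K587.EtBase
import Groth.Agent.Neron.K268.RegClos
import Groth.Agent.Neron.K984.WeakReg
import Groth.Agent.EtDl.K313.ExcOps
import Groth.Agent.Models.K381.DedFlat

/-!
# The regular projective model over an étale base (S15952, node SP)
-/

set_option autoImplicit false

universe u

open CategoryTheory CategoryTheory.Limits AlgebraicGeometry TopologicalSpace Opposite
open K531.Defs

namespace K753.Model

/-- Regularity and the dimensions of the local rings go up a weakly étale morphism. -/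
theorem regular_of_weaklyEtale' {Y Y' : Scheme.{u}} (q : Y' ⟶ Y) [WeaklyEtale q] [IsLocallyNoetherian Y']
    (y : Y') (hreg : IsRegularLocalRing (Y.presheaf.stalk (q y))) :
    IsRegularLocalRing (Y'.presheaf.stalk y) ∧
      ringKrullDim (Y'.presheaf.stalk y) = ringKrullDim (Y.presheaf.stalk (q y)) := by
  obtain ⟨h1, h2⟩ := (Groth.Agent.S1412.result q).mp inferInstance y
  let := (q.stalkMap y).hom.toAlgebra
  have hl : IsLocalHom (algebraMap (Y.presheaf.stalk (q y)) (Y'.presheaf.stalk y)) := by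
    change IsLocalHom (q.stalkMap y).hom
    infer_instance
  have hw : Algebra.WeaklyEtale (Y.presheaf.stalk (q y)) (Y'.presheaf.stalk y) :=
    { flat := h1
      flat_lmul' := h2 }
  exact K984.WeakReg.regular (Y.presheaf.stalk (q y)) (Y'.presheaf.stalk y) hreg

/-- The dimension goes down along a weakly étale morphism to a regular scheme. -/
theorem dim_le_of_weaklyEtale {Y Y' : Scheme.{u}} (q : Y' ⟶ Y) [WeaklyEtale q] [IsLocallyNoetherian Y']
    (hreg : ∀ y : Y, IsRegularLocalRing (Y.presheaf.stalk y)) :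
    topologicalKrullDim Y' ≤ topologicalKrullDim Y := by
  rw [K381.DedFlat.topologicalKrullDim_eq_iSup_stalk Y']
  refine iSup_le fun y => ?_
  rw [(regular_of_weaklyEtale' q y (hreg _)).2]
  exact K381.DedFlat.ringKrullDim_stalk_le Y (q y)

/-- The generic point of an integral scheme, in terms of a nonempty open part. -/
theorem exists_iso_open {V : Scheme.{u}} [IsIntegral V] {T : Scheme.{u}} (η : T ⟶ V)
    (hη : ∃ e : T ≅ Spec V.functionField, η = e.hom ≫ V.fromSpecStalk (genericPoint V))
    (V' : V.Opens) [IsIntegral (V' : Scheme.{u})] (η' : T ⟶ V') (h : η' ≫ V'.ι = η) :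
    ∃ e : T ≅ Spec (V' : Scheme.{u}).functionField,
      η' = e.hom ≫ (V' : Scheme.{u}).fromSpecStalk (genericPoint (V' : Scheme.{u})) := by
  have key : ∀ x : V, x = genericPoint V → ∃ e : T ≅ Spec (V.presheaf.stalk x), η = e.hom ≫ V.fromSpecStalk x := by
    rintro x rfl
    exact hη
  obtain ⟨e, he⟩ := key (V'.ι (genericPoint (V' : Scheme.{u}))) (genericPoint_eq_of_isOpenImmersion V'.ι)
  refine ⟨e ≪≫ (asIso (Spec.map (V'.ι.stalkMap (genericPoint (V' : Scheme.{u}))))).symm, ?_⟩
  rw [← cancel_mono V'.ι, h, he]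
  simp only [Iso.trans_hom, Iso.symm_hom, asIso_inv, Category.assoc]
  rw [← Scheme.SpecMap_stalkMap_fromSpecStalk, IsIso.inv_hom_id_assoc]

/-- (SP) -/
theorem exists_model {S : Scheme.{u}} [IsIntegral S] [IsNoetherian S] (hreg : ∀ s : S, IsRegularLocalRing (S.presheaf.stalk s))
    (hdimS : topologicalKrullDim S = 1) (hexc : ∀ U : S.affineOpens, EGA4.IsExcellent Γ(S, U))
    (L : Type u) [Field L] [Algebra S.functionField L] [FiniteDimensional S.functionField L]
    [Algebra.IsSeparable S.functionField L] {X : Scheme.{u}} (f : X ⟶ Spec (CommRingCat.of L)) {n : ℕ}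
    (i : X ⟶ CohB1.ProjSpaceOver n (Spec (CommRingCat.of L))) [IsClosedImmersion i]
    (hi : i ≫ CohB1.ProjSpaceOver.toBase n _ = f) (hX : ∀ x : X, IsRegularLocalRing (X.presheaf.stalk x))
    (hdim : ∀ W ∈ irreducibleComponents (X : Type u), topologicalKrullDim W = 1) :
    ∃ (V : Scheme.{u}) (_ : IsIntegral V) (_ : IsNoetherian V) (v : V ⟶ S) (_ : Etale v)
      (η : Spec (CommRingCat.of L) ⟶ V) (Y : Scheme.{u}) (h : Y ⟶ V) (k : Y ⟶ CohB1.ProjSpaceOver n V) (p : X ⟶ Y),
      η ≫ v = sp S.functionField L ≫ S.fromSpecStalk (genericPoint S) ∧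
      (∃ e : Spec (CommRingCat.of L) ≅ Spec V.functionField, η = e.hom ≫ V.fromSpecStalk (genericPoint V)) ∧
      IsClosedImmersion k ∧ k ≫ CohB1.ProjSpaceOver.toBase n V = h ∧ Flat h ∧ IsPullback p f h η ∧
      ∀ (R : Type u) [CommRing R] [IsDomain R] [IsDiscreteValuationRing R] (r : Spec (CommRingCat.of R) ⟶ V),
        WeaklyEtale r → ∀ y : ↥(pullback h r), IsRegularLocalRing ((pullback h r).presheaf.stalk y) ∧
          ringKrullDim ((pullback h r).presheaf.stalk y) ≤ 2 := by
  obtain ⟨V, hV1, hV2, v, hv, η, hηv, hη⟩ := K587.EtBase.exists_etale_base (S := S) L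
  have hVreg : ∀ s : V, IsRegularLocalRing (V.presheaf.stalk s) := fun s =>
    (regular_of_weaklyEtale' v s (hreg _)).1
  have hVdim : topologicalKrullDim V ≤ 1 := (dim_le_of_weaklyEtale v hreg).trans hdimS.le
  have hVexc : ∀ U : V.affineOpens, EGA4.IsExcellent Γ(V, U) :=
    K313.ExcOps.exc_of_local (K313.ExcOps.exc_of_lft v (K313.ExcOps.exists_nhd hexc))
  obtain ⟨V', η', Y, h, k, p, h1, h2, h3, h4, h5, h6⟩ :=
    K268.RegClos.exists_regular_closure hVreg hVdim hVexc η hη f i hi hX hdim
  have hne : Nonempty (V' : Scheme.{u}) := ⟨η' (IsLocalRing.closedPoint L)⟩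
  have hint : IsIntegral (V' : Scheme.{u}) := isIntegral_of_isOpenImmersion V'.ι
  have hnoe : IsNoetherian (V' : Scheme.{u}) := by
    have h7 : IsLocallyNoetherian (V' : Scheme.{u}) := LocallyOfFiniteType.isLocallyNoetherian V'.ι
    have h8 : CompactSpace (V' : Scheme.{u}) := QuasiCompact.compactSpace_of_compactSpace V'.ι
    exact { }
  refine ⟨V', hint, hnoe, V'.ι ≫ v, inferInstance, η', Y, h, k, p, by rw [reassoc_of% h1, hηv],
    exists_iso_open η hη V' η' h1, h2, h3, h4, h5, ?_⟩
  intro R _ _ _ r hr y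
  have h7 : LocallyOfFiniteType h := by
    have h10 := Groth.Agent.Ega3B.ProjProper.isProper_toBase n (V' : Scheme.{u})
    rw [← h3]
    infer_instance
  have h8 : IsLocallyNoetherian (pullback h r) :=
    LocallyOfFiniteType.isLocallyNoetherian (pullback.snd h r)
  have h9 : WeaklyEtale (pullback.fst h r) := MorphismProperty.pullback_fst h r hr
  exact K984.WeakReg.regular_of_weaklyEtale (pullback.fst h r) h6 y

end K753.Model
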