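import Groth.Agent.Neron.K491.PDefs
import Groth.Agent.AlgGrp.K393.LinPart
import Groth.Agent.AlgGrp.K402.Quo
import Groth.Agent.AlgGrp.K395.CovKit

/-!
# The maximal smooth connected affine subgroup of a commutative group (S17691, node MAX)
-/

set_option autoImplicit false
universe u

open CategoryTheory CategoryTheory.Limits AlgebraicGeometry MonObj MonoidalCategory CartesianMonoidalCategory

namespace K753.MaxAff
open K491.PDefs Groth.Agent.Sga3.H739.Fpqc

theorem isNormalHom_of_comm {S : Scheme.{u}} {N G : Over S} [GrpObj N] [GrpObj G] [IsCommMonObj G] (i : N ⟶ G) :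
    AlgGrp.IsNormalHom i := by
  intro T g n
  refine ⟨n, ?_⟩
  rw [mul_comm g, mul_inv_cancel_right]

/-- Quotients of commutative groups are commutative. -/
theorem isCommMonObj_of_cov {S : Scheme.{u}} {G Q : Over S} [GrpObj G] [IsCommMonObj G] [GrpObj Q] (q : G ⟶ Q)
    [IsMonHom q] (hq : Cov q) : IsCommMonObj Q := by
  have key : ∀ (T : Over S) (a b : T ⟶ Q), a * b = b * a := by
    intro T a b
    obtain ⟨T₁, t₁, x, ht₁, hx⟩ := hq.exists_local a
    obtain ⟨T₂, t₂, y, ht₂, hy⟩ := hq.exists_local (t₁ ≫ b)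
    apply (ht₂.comp ht₁).cancel
    rw [MonObj.comp_mul, MonObj.comp_mul, Category.assoc, Category.assoc, ← hx, ← hy, ← Category.assoc t₂ x,
      ← MonObj.mul_comp, ← MonObj.mul_comp, mul_comm]
  constructor
  have h := key (Q ⊗ Q) (fst Q Q) (snd Q Q)
  rw [Hom.mul_def, Hom.mul_def, lift_fst_snd, Category.id_comp] at h
  have h' : (β_ Q Q).hom = lift (snd Q Q) (fst Q Q) := by
    apply CartesianMonoidalCategory.hom_ext
    · rw [braiding_hom_fst, lift_fst]
    · rw [braiding_hom_snd, lift_snd]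
  rw [h', ← h]

/-- (MAX) a smooth connected commutative group has a smooth connected affine closed subgroup with pseudo-abelian
quotient. -/
theorem exists_max_affine (K : Type u) [Field K] (P : Over (Spec (CommRingCat.of K))) [GrpObj P] [IsCommMonObj P]
    [Smooth P.hom] [QuasiCompact P.hom] [ConnectedSpace ↥P.left] :
    ∃ (U X : Over (Spec (CommRingCat.of K))) (_ : GrpObj U) (_ : GrpObj X) (i : U ⟶ P) (q : P ⟶ X),
      IsMonHom i ∧ IsMonHom q ∧ IsClosedImmersion i.left ∧ AlgGrp.IsKernel i q ∧ Surjective q.left ∧ Flat q.left ∧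
      Smooth U.hom ∧ ConnectedSpace ↥U.left ∧ IsAffine U.left ∧
      Smooth X.hom ∧ QuasiCompact X.hom ∧ ConnectedSpace ↥X.left ∧ IsCommMonObj X ∧ IsPA X := by
  have hsep : IsSeparated P.hom := Groth.Agent.Books.AntiAffine.isSeparated_hom P
  have h0 : ∃ (E : Over (Spec (CommRingCat.of K))) (_ : GrpObj E) (j : E ⟶ P), IsMonHom j ∧
      IsClosedImmersion j.left ∧ Smooth E.hom ∧ ConnectedSpace E.left ∧ AlgGrp.IsNormalHom j ∧
      IsAffine E.left := by
    refine ⟨𝟙_ _, inferInstance, η[P], inferInstance, ?_, ?_, ?_, isNormalHom_of_comm _, ?_⟩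
    · exact ((Groth.Agent.S0346.result _ P).1).mp hsep
    · exact inferInstanceAs (Smooth (𝟙 _))
    · exact inferInstanceAs (ConnectedSpace (Spec (CommRingCat.of K)))
    · exact inferInstanceAs (IsAffine (Spec (CommRingCat.of K)))
  obtain ⟨U, hU, i, h1, h2, h3, h4, h5, h6, -, h7⟩ := Groth.Agent.S8004.result K
    (fun E _ => IsAffine E.left)
    (fun N E Q _ _ _ _ _ _ _ _ _ i q _ _ _ _ hk hN hQ =>
      have : IsAffine N.left := hN
      have : IsAffine Q.left := hQ
      Groth.Agent.Sga3.H821.ExtAffine.isAffine_of_extension K i q hk)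
    (fun E Q _ _ _ _ _ _ q _ _ _ hE =>
      have : IsAffine E.left := hE
      K393.LinPart.isAffine_of_quot E Q q) P h0
  obtain ⟨X, hX, q, c1, c2, c3, c4, c5, c6, c7⟩ := K402.Quo.exists_quotient i h5
  refine ⟨U, X, hU, hX, i, q, h1, c1, h2, c4, c2, c3, h3, h4, h6, c7 inferInstance, c6,
    K402.Quo.connected_of_surjective q, isCommMonObj_of_cov q (K395.CovKit.cov_of q), ?_⟩
  have hXc : IsCommMonObj X := isCommMonObj_of_cov q (K395.CovKit.cov_of q)
  intro H _ j _ d1 d2 d3 d4
  exact h7 X q c4 H j d1 d2 d3 (isNormalHom_of_comm j) d4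

end K753.MaxAff
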